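import Cfsg.Agent.SporB.Ru.Basic

/-!
Orbit and transition data of one level.
-/

set_option autoImplicit false
set_option maxRecDepth 100000

namespace Cfsg.Agent.SporB.Ru

def g3PtsC0 : List ℕ := [200, 536, 621, 659, 753, 1180, 1288, 1365, 1406, 1857, 1875, 1889, 2006, 2187, 2191, 2233, 2277, 2419, 2499, 2750, 2841, 3119, 3164, 3210, 3230, 3399, 3626, 3704, 3710, 3845, 3947, 4010]

/-- The orbit. -/
def g3Pts : List (List ℕ) := [g3PtsC0]

def g3RepsC0 : List ℕ := [0, 3787779, 4034051, 120704004, 129092612, 117762, 102146, 3585, 3533827, 3525635, 3780099, 4033539, 101378, 3771395, 3329, 4042243, 118274, 3271683, 126210, 3788035, 118018, 110082, 125954, 3073, 120966148, 3771907, 110338, 121211908, 101890, 129354756, 3263491, 3841]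

/-- Representatives. -/
def g3Reps : List (List ℕ) := [g3RepsC0]

def g3TransC0 : List ℕ := [23, 7, 27, 22, 4, 28, 10, 17, 15, 30, 30, 1, 11, 2, 28, 16, 22, 29, 5, 24, 24, 26, 26, 12, 14, 13, 21, 27, 0, 20, 29, 21, 1, 31, 18, 4, 8, 14, 16, 18, 9, 19, 7, 10, 17, 23, 12, 5, 25, 8, 3, 6, 31, 15, 19, 11, 13, 25, 2, 9, 20, 3, 6, 0]

/-- Transitions. -/
def g3Trans : List (List ℕ) := [g3TransC0]

/-- The level. -/
def g3 : Level where
  b := 200
  S := [12, 14]
  S' := []
  n := 32
  pts := g3Pts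
  reps := g3Reps
  trans := g3Trans

end Cfsg.Agent.SporB.Ru
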