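import Cfsg.Agent.SporB.Ru.Basic

/-!
Orbit and transition data of one level.
-/

set_option autoImplicit false
set_option maxRecDepth 100000

namespace Cfsg.Agent.SporB.Ru

def t2PtsC0 : List ℕ := [200, 659, 753, 1365, 1406, 1857, 1889, 2006, 2187, 2277, 2419, 3230, 3704, 3845, 3947, 4010]

/-- The orbit. -/
def t2Pts : List (List ℕ) := [t2PtsC0]

def t2RepsC0 : List ℕ := [0, 7169, 7542787, 235522, 6657, 6913, 236290, 227330, 236034, 202754, 6145, 7567363, 219138, 7559171, 6401, 235778]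

/-- Representatives. -/
def t2Reps : List (List ℕ) := [t2RepsC0]

def t2TransC0 : List ℕ := [10, 4, 1, 3, 8, 0, 15, 6, 9, 2, 13, 10, 12, 9, 8, 7, 0, 6, 11, 1, 5, 4, 10, 11, 13, 2, 4, 14, 5, 2, 9, 12, 3, 8, 3, 7, 5, 14, 13, 6, 15, 12, 0, 7, 15, 1, 11, 14]

/-- Transitions. -/
def t2Trans : List (List ℕ) := [t2TransC0]

/-- The level. -/
def t2 : Level where
  b := 200
  S := [24, 26, 28]
  S' := []
  n := 16
  pts := t2Pts
  reps := t2Reps
  trans := t2Trans

end Cfsg.Agent.SporB.Ru
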